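import Mathlib.CategoryTheory.Abelian.SerreClass.Localization
import Mathlib.Algebra.Homology.DerivedCategory.ExactFunctor

/-!
# Complexes lift along quotients by Serre classes
-/

set_option autoImplicit false
set_option linter.unusedSectionVars false
set_option linter.style.haveILetI false

universe v v' u u'

open CategoryTheory CategoryTheory.Limits

namespace SerreEssLib

variable {A : Type u} [Category.{v} A] [Abelian A] (P : ObjectProperty A) [P.IsSerreClass]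
  {Q : Type u'} [Category.{v'} Q] [Abelian Q] (L : A ⥤ Q) [L.IsLocalization P.isoModSerre]
  [L.Additive] [PreservesFiniteLimits L] [PreservesFiniteColimits L]

include P in
/-- The next term above, with vanishing composite. -/
theorem exists_up {X₀ X₁ : A} (d : X₀ ⟶ X₁) {Z₁ Z₂ : Q} (e : L.obj X₁ ≅ Z₁) (g : Z₁ ⟶ Z₂)
    (h : L.map d ≫ e.hom ≫ g = 0) :
    ∃ (X₂ : A) (d' : X₁ ⟶ X₂) (e' : L.obj X₂ ≅ Z₂), d ≫ d' = 0 ∧ L.map d' ≫ e'.hom = e.hom ≫ g := by
  haveI := Localization.essSurj L P.isoModSerre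
  let e₂ := L.objObjPreimageIso Z₂
  obtain ⟨φ, hφ⟩ := Localization.exists_leftFraction L P.isoModSerre (e.hom ≫ g ≫ e₂.inv)
  obtain ⟨Y', a, s, hs, rfl⟩ := φ.cases
  haveI := Localization.inverts L P.isoModSerre s hs
  have ha : L.map a = (e.hom ≫ g ≫ e₂.inv) ≫ L.map s := by
    rw [hφ]
    exact (MorphismProperty.LeftFraction.map_comp_map_s (.mk a s hs) L (Localization.inverts L _)).symm
  have h0 : L.map (d ≫ a) = 0 := by
    rw [L.map_comp, ha]
    simp [reassoc_of% h]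
  haveI : IsIso (L.map (cokernel.π (d ≫ a))) := by
    have e3 : L.map (cokernel.π (d ≫ a)) = cokernel.π (L.map (d ≫ a)) ≫ (PreservesCokernel.iso L (d ≫ a)).inv := by
      rw [PreservesCokernel.iso_inv, π_comp_cokernelComparison]
    haveI : IsIso (cokernel.π (L.map (d ≫ a))) := by
      haveI : IsIso (cokernel.π (0 : L.obj X₀ ⟶ L.obj Y')) := cokernel.π_zero_isIso
      have : cokernel.π (L.map (d ≫ a)) = cokernel.π (0 : L.obj X₀ ⟶ L.obj Y') ≫
          (cokernelIsoOfEq h0.symm).hom := (π_comp_cokernelIsoOfEq_hom h0.symm).symm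
      rw [this]
      infer_instance
    rw [e3]
    infer_instance
  refine ⟨cokernel (d ≫ a), a ≫ cokernel.π _,
    (asIso (L.map (cokernel.π (d ≫ a)))).symm ≪≫ (asIso (L.map s)).symm ≪≫ e₂, ?_, ?_⟩
  · rw [← Category.assoc, cokernel.condition]
  · simp [ha]

include P in
/-- The next term below, with vanishing composite. -/
theorem exists_down {X₁ X₂ : A} (d : X₁ ⟶ X₂) {Z₀ Z₁ : Q} (e : L.obj X₁ ≅ Z₁) (g : Z₀ ⟶ Z₁)
    (h : g ≫ e.inv ≫ L.map d = 0) :
    ∃ (X₀ : A) (d' : X₀ ⟶ X₁) (e' : L.obj X₀ ≅ Z₀), d' ≫ d = 0 ∧ L.map d' ≫ e.hom = e'.hom ≫ g := by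
  haveI := Localization.essSurj L P.isoModSerre
  let e₀ := L.objObjPreimageIso Z₀
  obtain ⟨φ, hφ⟩ := Localization.exists_rightFraction L P.isoModSerre (e₀.hom ≫ g ≫ e.inv)
  obtain ⟨Y', s, hs, a, rfl⟩ := φ.cases
  haveI := Localization.inverts L P.isoModSerre s hs
  have ha : L.map a = L.map s ≫ e₀.hom ≫ g ≫ e.inv := by
    rw [hφ]
    exact (MorphismProperty.RightFraction.map_s_comp_map (.mk s hs a) L (Localization.inverts L _)).symm
  have h0 : L.map (a ≫ d) = 0 := by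
    rw [L.map_comp, ha]
    simp [h]
  haveI : IsIso (L.map (kernel.ι (a ≫ d))) := by
    have e3 : L.map (kernel.ι (a ≫ d)) = (PreservesKernel.iso L (a ≫ d)).hom ≫ kernel.ι (L.map (a ≫ d)) := by
      rw [PreservesKernel.iso_hom, kernelComparison_comp_ι]
    haveI : IsIso (kernel.ι (L.map (a ≫ d))) := by
      haveI : IsIso (kernel.ι (0 : L.obj Y' ⟶ L.obj X₂)) := kernel.ι_zero_isIso
      have : kernel.ι (L.map (a ≫ d)) = (kernelIsoOfEq h0).hom ≫ kernel.ι (0 : L.obj Y' ⟶ L.obj X₂) :=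
        (kernelIsoOfEq_hom_comp_ι h0).symm
      rw [this]
      infer_instance
    rw [e3]
    infer_instance
  refine ⟨kernel (a ≫ d), kernel.ι _ ≫ a,
    asIso (L.map (kernel.ι (a ≫ d))) ≪≫ asIso (L.map s) ≪≫ e₀, ?_, ?_⟩
  · rw [Category.assoc, kernel.condition]
  · simp [ha]

variable (Z : CochainComplex Q ℤ)

/-- A lifted arrow in degree `n`. -/
structure St (n : ℤ) where
  /-- source -/
  X : A
  /-- target -/
  Y : A
  /-- differential -/
  d : X ⟶ Y
  /-- comparison at the source -/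
  e : L.obj X ≅ Z.X n
  /-- comparison at the target -/
  e' : L.obj Y ≅ Z.X (n + 1)
  /-- compatibility -/
  w : L.map d ≫ e'.hom = e.hom ≫ Z.d n (n + 1)

include P in
/-- Every complex in the quotient lifts. -/
theorem exists_lift : ∃ K : CochainComplex A ℤ,
    Nonempty ((L.mapHomologicalComplex (ComplexShape.up ℤ)).obj K ≅ Z) := by
  classical
  haveI := Localization.essSurj L P.isoModSerre
  have hstart : Nonempty (St L Z 0) := by
    obtain ⟨X₁, d, e', -, hd⟩ := exists_up P L (𝟙 (L.objPreimage (Z.X 0)) - 𝟙 _)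
      (L.objObjPreimageIso (Z.X 0)) (Z.d 0 (0 + 1)) (by simp)
    exact ⟨⟨_, _, d, _, e', hd⟩⟩
  have hup : ∀ (n : ℤ) (s : St L Z n), ∃ (Y : A) (d : s.Y ⟶ Y) (e : L.obj Y ≅ Z.X (n + 1 + 1)),
      s.d ≫ d = 0 ∧ L.map d ≫ e.hom = s.e'.hom ≫ Z.d (n + 1) (n + 1 + 1) := fun n s =>
    exists_up P L s.d s.e' _ (by rw [reassoc_of% s.w, Z.d_comp_d, comp_zero])
  choose Yu du eu hdu hwu using hup
  let U : ∀ k : ℕ, St L Z (k : ℤ) := fun k => Nat.rec hstart.some
    (fun k s => ⟨s.Y, Yu _ s, du _ s, s.e', eu _ s, hwu _ s⟩) k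
  have hdown : ∀ (m : ℤ) (X Y : A) (d : X ⟶ Y) (e : L.obj X ≅ Z.X (m + 1)) (e' : L.obj Y ≅ Z.X (m + 1 + 1)),
      L.map d ≫ e'.hom = e.hom ≫ Z.d (m + 1) (m + 1 + 1) →
      ∃ (X' : A) (d' : X' ⟶ X) (e₀ : L.obj X' ≅ Z.X m), d' ≫ d = 0 ∧ L.map d' ≫ e.hom = e₀.hom ≫ Z.d m (m + 1) :=
    fun m X Y d e e' hw => exists_down P L d e _ (by
      rw [← cancel_mono e'.hom, zero_comp, Category.assoc, Category.assoc, hw, Iso.inv_hom_id_assoc, Z.d_comp_d])
  choose Xd dd ed hdd hwd using hdown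
  let D : ∀ k : ℕ, St L Z (Int.negSucc k) := fun k => Nat.rec
    (motive := fun k => St L Z (Int.negSucc k))
    ⟨Xd (Int.negSucc 0) _ _ (U 0).d (U 0).e (U 0).e' (U 0).w, (U 0).X, dd _ _ _ _ _ _ _, ed _ _ _ _ _ _ _, (U 0).e, hwd _ _ _ _ _ _ _⟩
    (fun k s => ⟨Xd (Int.negSucc (k + 1)) _ _ s.d s.e s.e' s.w, s.X, dd _ _ _ _ _ _ _, ed _ _ _ _ _ _ _, s.e, hwd _ _ _ _ _ _ _⟩) k
  let X : ℤ → A := fun n => match n with
    | Int.ofNat k => (U k).X
    | Int.negSucc k => (D k).X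
  let d : ∀ n : ℤ, X n ⟶ X (n + 1) := fun n => match n with
    | Int.ofNat k => (U k).d
    | Int.negSucc 0 => (D 0).d
    | Int.negSucc (k + 1) => (D (k + 1)).d
  let e : ∀ n : ℤ, L.obj (X n) ≅ Z.X n := fun n => match n with
    | Int.ofNat k => (U k).e
    | Int.negSucc k => (D k).e
  have sq : ∀ n, d n ≫ d (n + 1) = 0 := fun n => match n with
    | Int.ofNat k => hdu _ (U k)
    | Int.negSucc 0 => hdd _ _ _ _ _ _ _
    | Int.negSucc 1 => hdd _ _ _ _ _ _ _
    | Int.negSucc (k + 2) => hdd _ _ _ _ _ _ _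
  have hw : ∀ n, L.map (d n) ≫ (e (n + 1)).hom = (e n).hom ≫ Z.d n (n + 1) := fun n => match n with
    | Int.ofNat k => (U k).w
    | Int.negSucc 0 => (D 0).w
    | Int.negSucc (k + 1) => (D (k + 1)).w
  refine ⟨CochainComplex.of X d sq, ⟨HomologicalComplex.Hom.isoOfComponents e fun i j hij => ?_⟩⟩
  obtain rfl : i + 1 = j := hij
  show (e i).hom ≫ Z.d i (i + 1) = L.map ((CochainComplex.of X d sq).d i (i + 1)) ≫ (e (i + 1)).hom
  rw [show (CochainComplex.of X d sq).d i (i + 1) = d i from CochainComplex.of_d X d i]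
  exact (hw i).symm

end SerreEssLib
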